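import Groth.Agent.SubGen.CommGeom
import Groth.Agent.Chev.SolvTorus
import Groth.Agent.Chev.TorusTheory
import Groth.Agent.Chev.Descent
import Groth.Agent.RedR1.Gen
import Groth.Agent.GrpField.SchImgSmooth

/-!
# The derived group of a solvable group has no subtorus
-/

set_option autoImplicit false
set_option backward.isDefEq.respectTransparency false
set_option linter.style.haveILetI false
set_option maxHeartbeats 1000000
set_option synthInstance.maxHeartbeats 200000

universe u

open CategoryTheory CategoryTheory.Limits MonoidalCategory CartesianMonoidalCategory MonObj GrpObj AlgebraicGeometry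
open scoped commutatorElement
open Groth.Agent.SubGen

noncomputable section

namespace Groth.Agent.SolvDerived

variable {k : Type u} [Field k]

/-- A group whose identity is the trivial endomorphism is trivial. -/
theorem isTrivialGrp_of_id_eq_one {S : Scheme.{u}} (T : Over S) [GrpObj T] (h : 𝟙 T = 1) : Red.IsTrivialGrp T := by
  have h1 : T.hom ≫ η[T].left = 𝟙 T.left := by
    have h2 : (toUnit T ≫ η[T]).left = 𝟙 T.left := by
      rw [← Hom.one_def, ← h]; rfl
    exact h2
  exact ⟨η[T].left, h1, Over.w η[T]⟩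

/-- The identity of a trivial group is the trivial endomorphism. -/
theorem id_eq_one_of_isTrivialGrp {S : Scheme.{u}} (T : Over S) [GrpObj T] (h : Red.IsTrivialGrp T) :
    𝟙 T = 1 := by
  haveI : IsIso T.hom := h
  refine Over.OverMorphism.ext ?_
  rw [← cancel_mono T.hom, Over.w, Over.w]

/-- Homomorphisms to a commutative group kill products of commutators. -/
theorem map_eq_one_of_bset {H C : Type*} [Group H] [Group C] (hC : ∀ a b : C, a * b = b * a) (Ψ : H →* C)
    {S : Set H} (hS : ∀ s ∈ S, ∃ x y : H, ⁅x, y⁆ = s) {N : ℕ} {z : H} (hz : z ∈ bset S N) : Ψ z = 1 := by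
  have h : Subgroup.closure S ≤ Ψ.ker := (Subgroup.closure_le _).2 fun s hs => by
    obtain ⟨x, y, rfl⟩ := hS s hs
    show Ψ _ = 1
    rw [map_commutatorElement, commutatorElement_eq_one_iff_mul_comm]
    exact hC _ _
  exact h (bset_subset_closure _ _ hz)

attribute [local instance] Functor.grpObjObj in
/-- Over an algebraically closed extension, the subgroup generated by the commutators of a connected
solvable group has no non-trivial subtorus. -/
theorem hasNoSubtorus {K : Type u} [Field K] [IsAlgClosed K] (φ : Spec (CommRingCat.of K) ⟶ Spec (CommRingCat.of k))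
    {G D : Over (Spec (CommRingCat.of k))} [GrpObj G] [GrpObj D]
    [IsAffine G.left] [Smooth G.hom] [ConnectedSpace G.left] [Smooth D.hom]
    (hsolv : Red.IsSolvableGrp G) (i : D ⟶ G) [IsMonHom i] [IsClosedImmersion i.left]
    (f' : G ⊗ G ⟶ D) (hf' : f' ≫ i = ⁅fst G G, snd G G⁆) (hd : JointlyDense (word f')) :
    Red.HasNoSubtorus K (Red.bc φ D) := by
  obtain ⟨θ, rfl⟩ := Spec.map_surjective φ
  letI : Algebra k K := θ.hom.toAlgebra
  haveI : IsAffineHom G.hom := isAffineHom_of_isAffine G.hom
  haveI : QuasiCompact G.hom := inferInstance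
  haveI : GeometricallyReduced G.hom := GrpField.SchImg.geometricallyReduced_of_smooth G.hom
  let P := Over.pullback (Spec.map θ)
  haveI : IsAffine (P.obj G).left := Chev.isAffine_bcK (k := k) K (X := G)
  haveI : Smooth (P.obj G).hom := Chev.smooth_bcK (k := k) K (X := G)
  haveI : Smooth (P.obj D).hom := Chev.smooth_bcK (k := k) K (X := D)
  haveI : ConnectedSpace (P.obj G).left := Chev.connectedSpace_bcK (k := k) K (X := G)
  let eG := ratEquiv (Spec.map θ) G
  haveI : Group.IsSolvable (Chev.RP (P.obj G)) := by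
    obtain ⟨n, hn⟩ := hsolv
    haveI : Group.IsSolvable (Over.mk (Spec.map θ) ⟶ G) := ⟨⟨n, hn _⟩⟩
    exact Group.isSolvable_of_surjective (f := eG.toMonoidHom) eG.surjective
  obtain ⟨T, hTg, iT, π, hiT, hπ, hcl, hsec, hT, hconj, -⟩ := Chev.Borel.exists_section_torus (P.obj G)
  haveI : IsReduced (P.obj D).left := SmoothRed.isReduced_of_smooth_scheme (P.obj D).hom
  haveI := Chev.locallyOfFiniteType_of_isTorus hT
  haveI : IsSeparated T.hom := GrpField.isSeparated_hom T
  haveI : IsMonHom (𝟙 G) := inferInstance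
  haveI : LocallyOfFiniteType G.hom := inferInstance
  have hN : AlgGrp.IsNormalHom (𝟙 G) := fun T g n => ⟨g * n * g⁻¹, by rw [Category.comp_id, Category.comp_id]⟩
  obtain ⟨N, hbd⟩ := exists_bound_geom (L := K) (𝟙 G) (𝟙 G) hN hN i f'
    (by rw [hf', Category.comp_id, Category.comp_id]) hd
  have key : P.map i ≫ π = 1 := by
    refine Chev.BorelFixed.hom_ext_rp fun z => ?_
    obtain ⟨z, rfl⟩ := (ratEquiv (Spec.map θ) D).surjective z
    rw [← Category.assoc, ← ratEquiv_comp, MonObj.comp_one]
    refine map_eq_one_of_bset (fun a b => RedR1.mul_comm_torus hT a b)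
      ((postHom π).comp eG.toMonoidHom) ?_ (hbd z)
    rintro s ⟨x, y, rfl⟩
    exact ⟨x ≫ 𝟙 G, y ≫ 𝟙 G, rfl⟩
  haveI : Mono i := GrpField.SchImg.mono_of_isClosedImmersion i
  haveI : PreservesLimitsOfShape WalkingCospan P :=
    (Adjunction.rightAdjoint_preservesLimits (Over.mapPullbackAdj (Spec.map θ))).preservesLimitsOfShape
  haveI : Mono (P.map i) := inferInstance
  intro T' _ j _ _ hT'
  obtain ⟨g, f, hfm, hf⟩ := hconj T' (j ≫ P.map i) hT'
  have hj : (j ≫ P.map i) ≫ π = 1 := by rw [Category.assoc, key, MonObj.comp_one]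
  have hf1 : f = 1 := by
    have h := congrArg (· ≫ π) hf
    simp only [Category.assoc, hsec, Category.comp_id] at h
    rw [h]
    simp only [AGF.conjBy, MonObj.mul_comp, GrpObj.inv_comp, hj, _root_.mul_one, mul_inv_cancel]
  rw [hf1, MonObj.one_comp] at hf
  have hj1 : j ≫ P.map i = 1 := by
    have h1 := hf.symm
    simp only [AGF.conjBy, mul_inv_eq_one] at h1
    exact mul_left_cancel (h1.trans (_root_.mul_one _).symm)
  refine isTrivialGrp_of_id_eq_one T' ?_
  rw [← cancel_mono j, ← cancel_mono (P.map i), Category.id_comp, hj1, MonObj.one_comp, MonObj.one_comp]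

end Groth.Agent.SolvDerived
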