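import Groth.Agent.SolvDerived.Gen
import Groth.Agent.PerfRad.Main

/-!
# Subtori of geometric fibres seen in a chosen algebraic closure
-/

set_option autoImplicit false
set_option backward.isDefEq.respectTransparency false
set_option linter.style.haveILetI false
set_option maxHeartbeats 1000000
set_option synthInstance.maxHeartbeats 200000

universe u

open CategoryTheory CategoryTheory.Limits MonoidalCategory CartesianMonoidalCategory MonObj GrpObj AlgebraicGeometry

noncomputable section

namespace Groth.Agent.SolvDerived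

attribute [local instance] Functor.grpObjObj

/-- The absence of subtori is preserved by base change along an isomorphism of fields. -/
theorem hasNoSubtorus_of_iso {K K' : Type u} [Field K] [Field K']
    (τ : Spec (CommRingCat.of K') ⟶ Spec (CommRingCat.of K)) [IsIso τ]
    (R : Over (Spec (CommRingCat.of K))) [GrpObj R] (hR : Red.HasNoSubtorus K R) :
    Red.HasNoSubtorus K' ((Over.pullback τ).obj R) := by
  let w := inv τ
  have hwτ : w ≫ τ = 𝟙 _ := IsIso.inv_hom_id τ
  haveI : PreservesLimitsOfShape WalkingCospan (Over.pullback w) :=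
    (Adjunction.rightAdjoint_preservesLimits (Over.mapPullbackAdj w)).preservesLimitsOfShape
  intro T _ j _ _ hT
  haveI := Chev.Borel.isIso_backHom τ w hwτ R
  haveI : IsMonHom (asIso (Chev.Borel.backHom τ w hwτ R)).hom := Chev.Borel.isMonHom_backHom τ w hwτ R
  haveI : IsMonHom (inv (Chev.Borel.backHom τ w hwτ R)) := inferInstanceAs (IsMonHom (asIso (Chev.Borel.backHom τ w hwτ R)).inv)
  exact UniRad.isTrivial_of_pullback w T
    (hR _ ((Over.pullback w).map j ≫ inv (Chev.Borel.backHom τ w hwτ R)) (Groth.Agent.Chev.isTorus_bc hT w))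

variable {k : Type u} [Field k] {K : Type u} [Field K] [Algebra k K] [IsAlgClosed K] [Algebra.IsAlgebraic k K]

/-- A group embedding over an algebraic closure into a group without subtori has none on geometric fibres. -/
theorem hasNoSubtorus_geomFibre {D : Over (Spec (CommRingCat.of k))} [GrpObj D]
    {R : Over (Spec (CommRingCat.of K))} [GrpObj R] (hR : Red.HasNoSubtorus K R)
    (t : (Over.pullback (Spec.map (CommRingCat.ofHom (algebraMap k K)))).obj D ⟶ R) [IsMonHom t] [Mono t]
    (s : Spec (CommRingCat.of k)) :
    Red.HasNoSubtorus (AlgebraicClosure ((Spec (CommRingCat.of k)).residueField s)) (Red.geomFibre s D) := by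
  obtain ⟨alg, halg, hpt⟩ := PerfRad.exists_algebra_geomPt s
  letI := alg; haveI := halg
  let L := AlgebraicClosure ((Spec (CommRingCat.of k)).residueField s)
  haveI : IsAlgClosure k L := ⟨inferInstance, halg⟩
  haveI : IsAlgClosure k K := ⟨inferInstance, inferInstance⟩
  let e : K ≃ₐ[k] L := IsAlgClosure.equiv k K L
  haveI : IsIso (CommRingCat.ofHom e.toRingEquiv.toRingHom) :=
    (ConcreteCategory.isIso_iff_bijective _).2 e.bijective
  let τ : Spec (CommRingCat.of L) ⟶ Spec (CommRingCat.of K) := Spec.map (CommRingCat.ofHom e.toRingEquiv.toRingHom)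
  haveI : IsIso τ := inferInstanceAs (IsIso (Spec.map (CommRingCat.ofHom e.toRingEquiv.toRingHom)))
  have hτ : τ ≫ Spec.map (CommRingCat.ofHom (algebraMap k K)) = Red.geomPt s := by
    rw [hpt, ← Spec.map_comp]
    show Spec.map _ = Spec.map _
    congr 1
    ext c
    exact e.commutes c
  haveI : PreservesLimitsOfShape WalkingCospan (Over.pullback τ) :=
    (Adjunction.rightAdjoint_preservesLimits (Over.mapPullbackAdj τ)).preservesLimitsOfShape
  obtain ⟨E, -, hE⟩ := Chev.MaxTorusBC.exists_trIso hτ D
  haveI : IsMonHom E.hom := hE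
  intro T _ j _ _ hT
  exact hasNoSubtorus_of_iso τ R hR T (j ≫ E.hom ≫ (Over.pullback τ).map t) hT

omit [IsAlgClosed K] [Algebra.IsAlgebraic k K] [Algebra k K] in
/-- A map out of a base change factors through a closed subscheme if it does so on a jointly dense family. -/
theorem exists_factor_of_dense (φ : Spec (CommRingCat.of K) ⟶ Spec (CommRingCat.of k))
    {D : Over (Spec (CommRingCat.of k))} {ν : Type*} {W : ν → Over (Spec (CommRingCat.of k))}
    {w : ∀ n, W n ⟶ D} (hw : SubGen.JointlyDense w) {V R : Over (Spec (CommRingCat.of K))}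
    (r : R ⟶ V) [IsClosedImmersion r.left] (u : (Over.pullback φ).obj D ⟶ V)
    (h : ∀ n, ∃ b, (Over.pullback φ).map (w n) ≫ u = b ≫ r) : ∃ b, u = b ≫ r := by
  let T₀ : Over (Spec (CommRingCat.of k)) := Over.mk φ
  let Y : Over (Spec (CommRingCat.of k)) := (Over.map φ).obj V
  let Z : Over (Spec (CommRingCat.of k)) := (Over.map φ).obj R
  let i0 : Z ⟶ Y := (Over.map φ).map r
  haveI : IsClosedImmersion i0.left := ‹IsClosedImmersion r.left›
  let f0 : D ⊗ T₀ ⟶ Y := Over.homMk u.left (by
    show u.left ≫ V.hom ≫ φ = _
    rw [Over.w_assoc u]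
    exact pullback.condition.symm)
  obtain ⟨b, hb⟩ := hw.factor (T := T₀) f0 i0 fun n => by
    obtain ⟨c, hc⟩ := h n
    refine ⟨Over.homMk c.left (by
      show c.left ≫ R.hom ≫ φ = _
      rw [Over.w_assoc c]
      exact pullback.condition.symm), Over.OverMorphism.ext ?_⟩
    have e : (w n ▷ T₀).left = ((Over.pullback φ).map (w n)).left := by
      apply pullback.hom_ext
      · exact (congrArg CommaMorphism.left (whiskerRight_fst (w n) T₀)).trans (pullback.lift_fst _ _ _).symm
      · exact (congrArg CommaMorphism.left (whiskerRight_snd (w n) T₀)).trans (pullback.lift_snd _ _ _).symm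
    show (w n ▷ T₀).left ≫ u.left = c.left ≫ r.left
    rw [e, ← Over.comp_left, hc, Over.comp_left]
  have h1 : u.left = b.left ≫ r.left := congrArg CommaMorphism.left hb
  refine ⟨Over.homMk b.left ?_, Over.OverMorphism.ext h1⟩
  have h2 := Over.w u
  rw [h1, Category.assoc] at h2
  have h3 : r.left ≫ V.hom = R.hom := Over.w r
  rw [h3] at h2
  exact h2

end Groth.Agent.SolvDerived
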