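import Groth.Agent.SolvDerived.Basic
import Groth.Agent.Chev.UnitsAxes
import Groth.Agent.GrpComp.Identity

/-!
# Generated subgroups killed by all maps to tori
-/

set_option autoImplicit false
set_option backward.isDefEq.respectTransparency false
set_option linter.style.haveILetI false
set_option maxHeartbeats 1000000
set_option synthInstance.maxHeartbeats 200000

universe u

open CategoryTheory CategoryTheory.Limits MonoidalCategory CartesianMonoidalCategory MonObj GrpObj AlgebraicGeometry
open Groth.Agent.SubGen

noncomputable section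

namespace Groth.Agent.SolvDerived

variable {k : Type u} [Field k] {K : Type u} [Field K] (φ : Spec (CommRingCat.of K) ⟶ Spec (CommRingCat.of k))

attribute [local instance] Functor.grpObjObj

/-- A map out of a base change which is trivial on a jointly dense family is trivial. -/
theorem eq_one_of_dense {D : Over (Spec (CommRingCat.of k))} {ν : Type*} {W : ν → Over (Spec (CommRingCat.of k))}
    {w : ∀ n, W n ⟶ D} (hw : JointlyDense w) {T : Over (Spec (CommRingCat.of K))} [GrpObj T] [IsSeparated T.hom]
    (u : (Over.pullback φ).obj D ⟶ T) (h : ∀ n, (Over.pullback φ).map (w n) ≫ u = 1) : u = 1 := by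
  let T₀ : Over (Spec (CommRingCat.of k)) := Over.mk φ
  let Y : Over (Spec (CommRingCat.of k)) := (Over.map φ).obj T
  let Z : Over (Spec (CommRingCat.of k)) := (Over.map φ).obj (𝟙_ (Over (Spec (CommRingCat.of K))))
  let i0 : Z ⟶ Y := (Over.map φ).map η[T]
  haveI : IsClosedImmersion η[T].left := by
    haveI : IsClosedImmersion (η[T].left ≫ T.hom) := by rw [Over.w η[T]]; exact inferInstanceAs (IsClosedImmersion (𝟙 _))
    exact IsClosedImmersion.of_comp η[T].left T.hom
  haveI : IsClosedImmersion i0.left := ‹IsClosedImmersion η[T].left›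
  let f0 : D ⊗ T₀ ⟶ Y := Over.homMk u.left (by
    show u.left ≫ T.hom ≫ φ = _
    rw [Over.w_assoc u]
    exact pullback.condition.symm)
  obtain ⟨b, hb⟩ := hw.factor (T := T₀) f0 i0 fun n => by
    refine ⟨Over.homMk (pullback.snd (W n).hom φ) (by
      show pullback.snd (W n).hom φ ≫ 𝟙 _ ≫ φ = _
      rw [Category.id_comp]
      exact pullback.condition.symm), Over.OverMorphism.ext ?_⟩
    have e : (w n ▷ T₀).left = ((Over.pullback φ).map (w n)).left := by
      apply pullback.hom_ext
      · exact (congrArg CommaMorphism.left (whiskerRight_fst (w n) T₀)).trans (pullback.lift_fst _ _ _).symm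
      · exact (congrArg CommaMorphism.left (whiskerRight_snd (w n) T₀)).trans (pullback.lift_snd _ _ _).symm
    show (w n ▷ T₀).left ≫ u.left = pullback.snd (W n).hom φ ≫ η[T].left
    rw [e, ← Over.comp_left, h n, Hom.one_def, Over.comp_left]
    rfl
  have h1 : u.left = b.left ≫ η[T].left := congrArg CommaMorphism.left hb
  refine Over.OverMorphism.ext ?_
  rw [h1, Hom.one_def, Over.comp_left]
  congr 1
  have h2 := Over.w u
  rw [h1, Category.assoc] at h2
  have h3 : η[T].left ≫ T.hom = 𝟙 _ := Over.w η[T]
  rw [h3] at h2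
  exact ((Category.comp_id b.left).symm.trans h2).trans (Category.comp_id _).symm

variable {G D X : Over (Spec (CommRingCat.of k))} [GrpObj G] [GrpObj D]

/-- A homomorphism killing the generators kills the words. -/
theorem word_killed (f : X ⟶ G) {T : Over (Spec (CommRingCat.of K))} [GrpObj T]
    (π : (Over.pullback φ).obj G ⟶ T) [IsMonHom π] (hkill : (Over.pullback φ).map f ≫ π = 1) :
    ∀ l, (Over.pullback φ).map (word f l) ≫ π = 1
  | [] => by
    have h : (word f [] : src X [] ⟶ G) = 1 := by
      rw [← comp_word_nil f (𝟙 _), Category.id_comp]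
    rw [h, Functor.map_one, MonObj.one_comp]
  | b :: l => by
    have hl : (Over.pullback φ).map (letter f b) ≫ π = 1 := by
      cases b
      · show (Over.pullback φ).map f⁻¹ ≫ π = 1
        rw [Functor.map_inv', GrpObj.inv_comp, hkill, inv_one]
      · exact hkill
    show (Over.pullback φ).map ((fst X (src X l) ≫ letter f b) * (snd X (src X l) ≫ word f l)) ≫ π = 1
    rw [Functor.map_mul, MonObj.mul_comp, CategoryTheory.Functor.map_comp, CategoryTheory.Functor.map_comp,
      Category.assoc, Category.assoc, hl, word_killed f π hkill l, MonObj.comp_one, MonObj.comp_one, _root_.one_mul]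

/-- A generated subgroup all of whose generators die in every torus has no subtorus. -/
theorem hasNoSubtorus_gen [IsAlgClosed K] [IsAffine G.left] [Smooth G.hom] [ConnectedSpace G.left]
    (hsolv : Red.IsSolvableGrp G) (i : D ⟶ G) [IsMonHom i] [IsClosedImmersion i.left] (f : X ⟶ G)
    (f' : X ⟶ D) (hf' : f' ≫ i = f) (hd : JointlyDense (word f'))
    (hkill : ∀ (T : Over (Spec (CommRingCat.of K))) [GrpObj T] (π : (Over.pullback φ).obj G ⟶ T) [IsMonHom π],
      Red.IsTorus T → (Over.pullback φ).map f ≫ π = 1) :
    Red.HasNoSubtorus K (Red.bc φ D) := by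
  obtain ⟨θ, rfl⟩ := Spec.map_surjective φ
  letI : Algebra k K := θ.hom.toAlgebra
  haveI : IsAffineHom G.hom := isAffineHom_of_isAffine G.hom
  let P := Over.pullback (Spec.map θ)
  haveI : IsAffine (P.obj G).left := Chev.isAffine_bcK (k := k) K (X := G)
  haveI : Smooth (P.obj G).hom := Chev.smooth_bcK (k := k) K (X := G)
  haveI : ConnectedSpace (P.obj G).left := Chev.connectedSpace_bcK (k := k) K (X := G)
  let eG := ratEquiv (Spec.map θ) G
  haveI : Group.IsSolvable (Chev.RP (P.obj G)) := by
    obtain ⟨n, hn⟩ := hsolv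
    haveI : Group.IsSolvable (Over.mk (Spec.map θ) ⟶ G) := ⟨⟨n, hn _⟩⟩
    exact Group.isSolvable_of_surjective (f := eG.toMonoidHom) eG.surjective
  obtain ⟨T, hTg, iT, π, hiT, hπ, hcl, hsec, hT, hconj, -⟩ := Chev.Borel.exists_section_torus (P.obj G)
  haveI := Chev.locallyOfFiniteType_of_isTorus hT
  haveI : IsSeparated T.hom := GrpField.isSeparated_hom T
  have key : P.map i ≫ π = 1 := by
    refine eq_one_of_dense (Spec.map θ) hd _ fun l => ?_
    rw [← Category.assoc, ← CategoryTheory.Functor.map_comp, word_comp, hf']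
    exact word_killed (Spec.map θ) f π (hkill T π hT) l
  haveI : Mono i := GrpField.SchImg.mono_of_isClosedImmersion i
  haveI : PreservesLimitsOfShape WalkingCospan P :=
    (Adjunction.rightAdjoint_preservesLimits (Over.mapPullbackAdj (Spec.map θ))).preservesLimitsOfShape
  haveI : Mono (P.map i) := inferInstance
  intro T' _ j _ _ hT'
  obtain ⟨g, t, hfm, hf⟩ := hconj T' (j ≫ P.map i) hT'
  have hj : (j ≫ P.map i) ≫ π = 1 := by rw [Category.assoc, key, MonObj.comp_one]
  have hf1 : t = 1 := by
    have h := congrArg (· ≫ π) hf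
    simp only [Category.assoc, hsec, Category.comp_id] at h
    rw [h]
    simp only [AGF.conjBy, MonObj.mul_comp, GrpObj.inv_comp, hj, _root_.mul_one, mul_inv_cancel]
  rw [hf1, MonObj.one_comp] at hf
  have hj1 : j ≫ P.map i = 1 := by
    have h1 := hf.symm
    simp only [AGF.conjBy, mul_inv_eq_one] at h1
    exact mul_left_cancel (h1.trans (_root_.mul_one _).symm)
  refine isTrivialGrp_of_id_eq_one T' ?_
  rw [← cancel_mono j, ← cancel_mono (P.map i), Category.id_comp, hj1, MonObj.one_comp, MonObj.one_comp]

/-- The subgroup generated by a map from a connected scheme through the unit is connected. -/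
theorem connectedSpace_gen [LocallyOfFiniteType D.hom] [ConnectedSpace X.left] (f : X ⟶ D)
    (hd : JointlyDense (word f)) (he : ∃ x : 𝟙_ _ ⟶ X, x ≫ f = 1) : ConnectedSpace D.left := by
  obtain ⟨G₀, hG₀, incl, hincl, hcl, hflat, hr, -, -, -⟩ := Groth.Agent.GrpComp.exists_identity_subgroup D
  obtain ⟨x, hx⟩ := he
  have hrange : Set.range f.left ⊆ Set.range incl.left := by
    rw [hr]
    refine (isPreconnected_range f.left.continuous).subset_connectedComponent
      ⟨x.left (IsLocalRing.closedPoint k), ?_⟩
    rw [← Scheme.Hom.comp_apply, ← Over.comp_left, hx, Hom.one_def, toUnit_unique (toUnit _) (𝟙 _), Category.id_comp]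
    rfl
  obtain ⟨g, hg⟩ := Groth.Agent.GrpComp.exists_factor_flat incl.left f.left hrange
  let g' : X ⟶ G₀ := Over.homMk g (by rw [← Over.w incl, reassoc_of% hg]; exact Over.w f)
  haveI : IsIso incl := hd G₀ incl hcl fun l =>
    exists_factor_word f incl ⟨g', Over.OverMorphism.ext hg⟩ l
  haveI : IsIso incl.left := inferInstanceAs (IsIso ((Over.forget _).map incl))
  refine connectedSpace_iff_connectedComponent.2 ⟨Groth.Agent.GrpComp.ept D, ?_⟩
  rw [← hr]
  exact incl.left.homeomorph.surjective.range_eq

end Groth.Agent.SolvDerived
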